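-- Team project CHO (S1083), package [NORM-B2] (helper80): diagonal isometries normalize `R`.
import Cfsg.Agent.Lib.Helper99.CHO.Defs2

set_option autoImplicit false
open scoped MatrixGroups
open Matrix

namespace Cfsg.Agent.Lib.Helper80.CHO

open Cfsg.Agent.Lib.Helper99.CHO

universe u

set_option maxHeartbeats 4000000 in
/-- a diagonal matrix with `δ_0^2 = 1`, `δ(e_i) δ(f_i) = 1` conjugates `E_r(t)` to `E_r(χ t)`. -/
theorem diag_comm80 (K : Type u) [Field K] (δ : Unit ⊕ (Fin 2 ⊕ Fin 2) → K)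
    (h0 : δ (Sum.inl ()) * δ (Sum.inl ()) = 1)
    (h1 : δ (Sum.inr (Sum.inl 0)) * δ (Sum.inr (Sum.inr 0)) = 1)
    (h2 : δ (Sum.inr (Sum.inl 1)) * δ (Sum.inr (Sum.inr 1)) = 1) (r : ℕ) (hr : r < 8) (t : K) :
    ∃ χ : K, Matrix.diagonal δ * EB2mat K r t = EB2mat K r (χ * t) * Matrix.diagonal δ := by
  interval_cases r
  · refine ⟨δ (Sum.inr (Sum.inr 0)) * δ (Sum.inr (Sum.inr 1)), ?_⟩
    ext i j
    rw [Matrix.diagonal_mul, Matrix.mul_diagonal]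
    rcases i with ⟨⟩ | (i | i) <;> rcases j with ⟨⟩ | (j | j) <;> (try fin_cases i) <;>
      (try fin_cases j) <;>
      simp [EB2mat, NB2, MB2, tab3, nListB2, mListB2, ix5]
    all_goals grind
  · refine ⟨δ (Sum.inl ()) * δ (Sum.inr (Sum.inr 0)), ?_⟩
    ext i j
    rw [Matrix.diagonal_mul, Matrix.mul_diagonal]
    rcases i with ⟨⟩ | (i | i) <;> rcases j with ⟨⟩ | (j | j) <;> (try fin_cases i) <;>
      (try fin_cases j) <;>
      simp [EB2mat, NB2, MB2, tab3, nListB2, mListB2, ix5]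
    all_goals grind
  · refine ⟨δ (Sum.inl ()) * δ (Sum.inr (Sum.inr 1)), ?_⟩
    ext i j
    rw [Matrix.diagonal_mul, Matrix.mul_diagonal]
    rcases i with ⟨⟩ | (i | i) <;> rcases j with ⟨⟩ | (j | j) <;> (try fin_cases i) <;>
      (try fin_cases j) <;>
      simp [EB2mat, NB2, MB2, tab3, nListB2, mListB2, ix5]
    all_goals grind
  · refine ⟨δ (Sum.inr (Sum.inr 0)) * δ (Sum.inr (Sum.inl 1)), ?_⟩
    ext i j
    rw [Matrix.diagonal_mul, Matrix.mul_diagonal]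
    rcases i with ⟨⟩ | (i | i) <;> rcases j with ⟨⟩ | (j | j) <;> (try fin_cases i) <;>
      (try fin_cases j) <;>
      simp [EB2mat, NB2, MB2, tab3, nListB2, mListB2, ix5]
    all_goals grind
  · refine ⟨δ (Sum.inr (Sum.inl 0)) * δ (Sum.inr (Sum.inr 1)), ?_⟩
    ext i j
    rw [Matrix.diagonal_mul, Matrix.mul_diagonal]
    rcases i with ⟨⟩ | (i | i) <;> rcases j with ⟨⟩ | (j | j) <;> (try fin_cases i) <;>
      (try fin_cases j) <;>
      simp [EB2mat, NB2, MB2, tab3, nListB2, mListB2, ix5]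
    all_goals grind
  · refine ⟨δ (Sum.inl ()) * δ (Sum.inr (Sum.inl 1)), ?_⟩
    ext i j
    rw [Matrix.diagonal_mul, Matrix.mul_diagonal]
    rcases i with ⟨⟩ | (i | i) <;> rcases j with ⟨⟩ | (j | j) <;> (try fin_cases i) <;>
      (try fin_cases j) <;>
      simp [EB2mat, NB2, MB2, tab3, nListB2, mListB2, ix5]
    all_goals grind
  · refine ⟨δ (Sum.inl ()) * δ (Sum.inr (Sum.inl 0)), ?_⟩
    ext i j
    rw [Matrix.diagonal_mul, Matrix.mul_diagonal]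
    rcases i with ⟨⟩ | (i | i) <;> rcases j with ⟨⟩ | (j | j) <;> (try fin_cases i) <;>
      (try fin_cases j) <;>
      simp [EB2mat, NB2, MB2, tab3, nListB2, mListB2, ix5]
    all_goals grind
  · refine ⟨δ (Sum.inr (Sum.inl 0)) * δ (Sum.inr (Sum.inl 1)), ?_⟩
    ext i j
    rw [Matrix.diagonal_mul, Matrix.mul_diagonal]
    rcases i with ⟨⟩ | (i | i) <;> rcases j with ⟨⟩ | (j | j) <;> (try fin_cases i) <;>
      (try fin_cases j) <;>
      simp [EB2mat, NB2, MB2, tab3, nListB2, mListB2, ix5]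
    all_goals grind

/-- [NORM-B2] diagonal isometries normalize `R`. -/
theorem pkgNormB2_of (hU : PkgUnitB2.{u}) : PkgNormB2.{u} := by
  intro K _ d hd r t
  obtain ⟨hiso, hdiag⟩ := hd
  set D : Matrix (Unit ⊕ (Fin 2 ⊕ Fin 2)) (Unit ⊕ (Fin 2 ⊕ Fin 2)) K :=
    (d : Matrix (Unit ⊕ (Fin 2 ⊕ Fin 2)) (Unit ⊕ (Fin 2 ⊕ Fin 2)) K) with hD
  set δ : Unit ⊕ (Fin 2 ⊕ Fin 2) → K := fun i => D i i with hδ
  have hDd : D = Matrix.diagonal δ := by
    ext i j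
    by_cases hij : i = j
    · subst hij
      simp [hδ]
    · rw [Matrix.diagonal_apply_ne _ hij]
      exact hdiag i j hij
  have hQ : ∀ v : Unit ⊕ (Fin 2 ⊕ Fin 2) → K,
      Cfsg.quadFormOdd 2 K (D *ᵥ v) = Cfsg.quadFormOdd 2 K v := fun v => hiso v v
  have hmv : ∀ v : Unit ⊕ (Fin 2 ⊕ Fin 2) → K, D *ᵥ v = fun i => δ i * v i := by
    intro v
    rw [hDd]
    ext i
    rw [Matrix.mulVec_diagonal]
  have h0 : δ (Sum.inl ()) * δ (Sum.inl ()) = 1 := by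
    have h := hQ (Pi.single (Sum.inl ()) 1)
    rw [hmv] at h
    simpa [Cfsg.quadFormOdd, Fin.sum_univ_two, pow_two] using h
  have h1 : δ (Sum.inr (Sum.inl 0)) * δ (Sum.inr (Sum.inr 0)) = 1 := by
    have h := hQ (Pi.single (Sum.inr (Sum.inl 0)) 1 + Pi.single (Sum.inr (Sum.inr 0)) 1)
    rw [hmv] at h
    simpa [Cfsg.quadFormOdd, Fin.sum_univ_two] using h
  have h2 : δ (Sum.inr (Sum.inl 1)) * δ (Sum.inr (Sum.inr 1)) = 1 := by
    have h := hQ (Pi.single (Sum.inr (Sum.inl 1)) 1 + Pi.single (Sum.inr (Sum.inr 1)) 1)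
    rw [hmv] at h
    simpa [Cfsg.quadFormOdd, Fin.sum_univ_two] using h
  obtain ⟨r, hr⟩ := r
  have hr8 : r < 8 := hr
  obtain ⟨χ, hχ⟩ := diag_comm80 K δ h0 h1 h2 r hr8 t
  have hE : ∀ s : K, ((EB2 K ⟨r, hr⟩ s : GL (Unit ⊕ (Fin 2 ⊕ Fin 2)) K) :
      Matrix (Unit ⊕ (Fin 2 ⊕ Fin 2)) (Unit ⊕ (Fin 2 ⊕ Fin 2)) K) = EB2mat K r s := by
    intro s
    unfold EB2
    rw [dif_pos (hU K r s hr8)]
    exact IsUnit.unit_spec _
  have hconj : d * EB2 K ⟨r, hr⟩ t * d⁻¹ = EB2 K ⟨r, hr⟩ (χ * t) := by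
    rw [mul_inv_eq_iff_eq_mul]
    apply Units.ext
    rw [Units.val_mul, Units.val_mul, hE, hE]
    rw [← hDd] at hχ
    exact hχ
  rw [hconj]
  exact Subgroup.subset_closure ⟨(⟨r, hr⟩, χ * t), rfl⟩

end Cfsg.Agent.Lib.Helper80.CHO
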